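import Cfsg.Agent.Lib.Goldschmidt.RankOne.Fields
import Cfsg.Agent.Lib.PGUThree.ModelCentralizer
import Cfsg.Agent.Lib.RootSz.Models

/-!
The facts on the Sylow 2-subgroups of `PSU₃(2^n)` used for `AGood`.
-/

set_option autoImplicit false
set_option linter.unusedSectionVars false
set_option linter.style.haveILetI false

namespace CfsgLib.Goldschmidt.RankOne

open Subgroup MulAction CfsgLib.RankOneInvol CfsgLib.AutPSU

universe u v

local instance : Fact (Nat.Prime 2) := ⟨Nat.prime_two⟩

section model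

variable {F : Type} [Field F] [Fintype F] {n : ℕ}

/-- In `PSU₃(2^n)` some involution has a centraliser centralising the involutions in it. -/
theorem psu_centre_cent (hn : 2 ≤ n) (hF : Fintype.card F = (2 ^ n) ^ 2) :
    ∃ z : PSUG 3 F (2 ^ n), orderOf z = 2 ∧
      ∀ g a : PSUG 3 F (2 ^ n), Commute g z → Commute a z → a * a = 1 → Commute g a := by
  have he : Even (2 ^ n) := Nat.even_pow.2 ⟨even_two, by omega⟩
  obtain ⟨fr⟩ := exists_frame hF 1
  have hcen := UThreeSylow.psu_center (F := F) hn rfl hF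
  have hinj : ∀ x y : PSUG 3 F (2 ^ n), MulAut.conj x = MulAut.conj y → x = y := fun x y h => by
    have h1 : x⁻¹ * y ∈ center (PSUG 3 F (2 ^ n)) := mem_center_iff.2 fun w => by
      have h2 : x * w * x⁻¹ = y * w * y⁻¹ := by rw [← MulAut.conj_apply, h, MulAut.conj_apply]
      calc w * (x⁻¹ * y) = x⁻¹ * (x * w * x⁻¹) * y := by group
        _ = x⁻¹ * y * w := by rw [h2]; group
    rw [hcen, mem_bot] at h1
    exact inv_mul_eq_one.1 h1
  set z : PSUG 3 F (2 ^ n) := QuotientGroup.mk (tmat (2 ^ n) fr.u 1)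
  have hz : MulAut.conj z = conjU (PGUThree.trU fr) := (conjU_su _).symm
  refine ⟨z, orderOf_eq_prime ?_ ?_, fun g a hg ha ha2 => ?_⟩
  · rw [pow_two]
    refine hinj _ _ ?_
    rw [map_mul, hz, ← map_mul, PGUThree.trU_sq hF he fr, map_one, map_one]
  · intro h
    exact PGUThree.conjU_trU_ne_one hF he fr (by rw [← hz, h, map_one])
  · have hlift : ∀ x : PSUG 3 F (2 ^ n), Commute x z → ∃ k : PGUThree.stabU fr,
        conjU (k : GUG 3 F (2 ^ n)) = MulAut.conj x := by
      intro x hx
      obtain ⟨s, rfl⟩ := QuotientGroup.mk_surjective x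
      obtain ⟨u, hu⟩ := PGUThree.exists_fix_of_commute hF he fr (suToGU s) (by
        rw [map_mul, map_mul, map_inv, conjU_su, ← hz, ← map_inv, ← map_mul, ← map_mul, hx.eq,
          mul_inv_cancel_right])
      exact ⟨⟨_, hu⟩, by rw [map_mul, map_inv, conjU_scalar hF, inv_one, mul_one, conjU_su]⟩
    obtain ⟨k, hk⟩ := hlift g hg
    obtain ⟨l, hl⟩ := hlift a ha
    have hl2 : l * l = 1 := by
      refine PGUThree.eq_one_of_scalar_fix hF fr ?_
      rw [PGUThree.center_eq_ker hF, MonoidHom.mem_ker, Subgroup.coe_mul, map_mul, hl, ← map_mul, ha2,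
        map_one]
    have hc := congrArg (fun w : PGUThree.stabU fr => conjU (w : GUG 3 F (2 ^ n)))
      (PGUThree.inv_central_stabU hF he fr l hl2 k)
    simp only [Subgroup.coe_mul, map_mul, hk, hl] at hc
    rw [← map_mul, ← map_mul] at hc
    exact (hinj _ _ hc).symm

end model

variable {X : Type u} [Group X] [Finite X] {Ω : Type v} [MulAction X Ω] {a : Ω} {t : X} {T : Sylow 2 X}
  (hC : Ctx Ω a t T) {F : Type} [Field F] [Fintype F] {n : ℕ}

include hC

theorem centralizer_cent (hn : 2 ≤ n) (hF : Fintype.card F = (2 ^ n) ^ 2)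
    (e : X ≃* Cfsg.PSU 3 F (2 ^ n)) {d x y : X} (hx : x ∈ involSet (T : Subgroup X)) (hx1 : x ≠ 1)
    (hy : y ∈ involSet (T : Subgroup X)) (hd : Commute d x) : Commute d y := by
  obtain ⟨z, hz, hcomm⟩ := psu_centre_cent (F := F) hn hF
  have hzo : orderOf (e.symm z) = 2 := by rw [MulEquiv.orderOf_eq, hz]
  obtain ⟨k, hk⟩ := invol_conj hC.setup hx1 (by rw [← pow_two]; exact hx.2)
    (v := e.symm z) (fun h => by rw [h, orderOf_one] at hzo; omega)
    (CfsgLib.Involutions.mul_self_eq_one hzo)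
  set σ : X →* Cfsg.PSU 3 F (2 ^ n) := e.toMonoidHom.comp (MulAut.conj k).toMonoidHom with hσ
  have hσz : σ x = z := by
    show e (k * x * k⁻¹) = z
    rw [hk, e.apply_symm_apply]
  have h := hcomm (σ d) (σ y) (hσz ▸ hd.map σ)
    (hσz ▸ (show Commute y x from hC.central hy hx.1).map σ)
    (by rw [← map_mul, ← pow_two, hy.2, map_one])
  have hinj : Function.Injective σ := (MulEquiv.injective e).comp (MulAut.conj k).injective
  exact hinj (show σ (d * y) = σ (y * d) by rw [map_mul, map_mul]; exact h.eq)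

theorem psu_props (hn : 2 ≤ n) (hF : Fintype.card F = (2 ^ n) ^ 2)
    (e : X ≃* Cfsg.PSU 3 F (2 ^ n)) [IsSimpleGroup X] : Props T (2 ^ n) := by
  classical
  have hut := RootSz.psu_ut e hF (by omega) T
  set q := 2 ^ n with hq
  have h4 : 4 ≤ q := by
    calc 4 = 2 ^ 2 := by norm_num
      _ ≤ 2 ^ n := Nat.pow_le_pow_right (by norm_num) hn
  have hinv : ∀ x : ↥(T : Subgroup X), x ∈ center ↥(T : Subgroup X) ↔
      (x : X) ∈ involSet (T : Subgroup X) := fun x => by
    constructor
    · intro h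
      exact ⟨x.2, by rw [pow_two]; exact congrArg Subtype.val (hut.center_sq x h)⟩
    · intro h
      exact hut.sq_one x (Subtype.ext (by rw [Subgroup.coe_mul, ← pow_two]; exact h.2))
  have hncard : (involSet (T : Subgroup X)).ncard = q := by
    rw [← Nat.card_coe_set_eq, ← hut.card_center]
    exact Nat.card_congr
      { toFun := fun x => ⟨⟨x, x.2.1⟩, (hinv ⟨x, x.2.1⟩).2 x.2⟩
        invFun := fun x => ⟨(x : ↥(T : Subgroup X)), (hinv _).1 x.2⟩
        left_inv := fun x => rfl
        right_inv := fun x => rfl }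
  -- the two point stabiliser
  have hbig : q ≤ Nat.card ↥(twoPt X a t) := by
    have h1 := ClassicalGroups.card_SU_eq_center_mul_PSU (F := F) (q := q) 3
    rw [← Nat.card_congr e.toEquiv, PGUThree.card_SU_three hF,
      ClassicalGroups.card_center_SU hF (by norm_num), hC.card_group, hut.card] at h1
    have h3 : Nat.gcd 3 (q + 1) ≤ 3 := Nat.gcd_le_left _ (by norm_num)
    have h2 : Nat.gcd 3 (q + 1) * Nat.card ↥(twoPt X a t) = q ^ 2 - 1 := by
      refine Nat.eq_of_mul_eq_mul_left (show 0 < (q ^ 3 + 1) * q ^ 3 by positivity) ?_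
      calc (q ^ 3 + 1) * q ^ 3 * (Nat.gcd 3 (q + 1) * Nat.card ↥(twoPt X a t))
          = Nat.gcd 3 (q + 1) * ((q ^ 3 + 1) * (q ^ 3 * Nat.card ↥(twoPt X a t))) := by ring
        _ = q ^ 3 * ((q ^ 3 + 1) * (q ^ 2 - 1)) := h1.symm
        _ = _ := by ring
    by_contra hlt
    have h5 : Nat.gcd 3 (q + 1) * Nat.card ↥(twoPt X a t) ≤ 3 * (q - 1) :=
      Nat.mul_le_mul h3 (by omega)
    have h6 : 4 * q ≤ q ^ 2 := by rw [pow_two]; exact Nat.mul_le_mul_right q h4
    omega
  refine ⟨h4, hncard, fun x hx => (hinv ⟨x * x, mul_mem hx hx⟩).1 (hut.sq_mem ⟨x, hx⟩), ?_, ?_⟩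
  · intro B hBT hB hsub hinvB x hx
    by_contra hxZ
    have hxc : (⟨x, hBT hx⟩ : ↥(T : Subgroup X)) ∉ center ↥(T : Subgroup X) := fun h =>
      hxZ ((hinv _).1 h)
    -- above
    have hle : Nat.card ↥B ≤ q * q := by
      rw [← UThreeSylow.card_commute hut hxc]
      refine Nat.card_le_card_of_injective (fun b => ⟨⟨b, hBT b.2⟩, Subtype.ext ?_⟩) fun b b' h =>
        Subtype.ext (congrArg (fun w => ((w.1 : ↥(T : Subgroup X)) : X)) h)
      exact (congrArg Subtype.val (hB.is_comm.comm (⟨x, hx⟩ : ↥B) b) : x * (b : X) = (b : X) * x)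
    -- below
    have hfree : ∀ d ∈ twoPt X a t, x⁻¹ * (d * x * d⁻¹) ∈ involSet (T : Subgroup X) → d = 1 := by
      intro d hd hdx
      have hdN : d ∈ normalizer ((T : Subgroup X) : Set X) := hC.mem_stab.1 hd.1
      have hx2 : x * x ∈ involSet (T : Subgroup X) :=
        (hinv ⟨x * x, mul_mem (hBT hx) (hBT hx)⟩).1 (hut.sq_mem ⟨x, hBT hx⟩)
      have hx21 : x * x ≠ 1 := fun h => hxc (hut.sq_one _ (Subtype.ext h))
      have hds : Commute d (x * x) := by
        set z := x⁻¹ * (d * x * d⁻¹) with hz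
        have hzx : z * x = x * z := hC.central hdx (hBT hx)
        have h1 : d * x * d⁻¹ = x * z := by rw [hz]; group
        have h2 : d * (x * x) * d⁻¹ = x * x := by
          calc d * (x * x) * d⁻¹ = d * x * d⁻¹ * (d * x * d⁻¹) := by group
            _ = x * z * (x * z) := by rw [h1]
            _ = x * (z * x) * z := by group
            _ = x * x * z ^ 2 := by rw [hzx, pow_two]; group
            _ = x * x := by rw [hdx.2, mul_one]
        exact mul_inv_eq_iff_eq_mul.1 h2
      have hdT : ∀ {w : X}, w ∈ (T : Subgroup X) → d * w * d⁻¹ ∈ (T : Subgroup X) := fun {w} hw =>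
        (mem_normalizer_iff.1 hdN w).1 hw
      have hdT' : ∀ {w : X}, w ∈ (T : Subgroup X) → d⁻¹ * w * d ∈ (T : Subgroup X) := fun {w} hw => by
        have := (mem_normalizer_iff.1 (inv_mem hdN) w).1 hw
        rwa [inv_inv] at this
      let φ : MulAut ↥(T : Subgroup X) :=
        { toFun := fun w => ⟨d * w * d⁻¹, hdT w.2⟩
          invFun := fun w => ⟨d⁻¹ * w * d, hdT' w.2⟩
          left_inv := fun w => Subtype.ext (by simp [mul_assoc])
          right_inv := fun w => Subtype.ext (by simp [mul_assoc])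
          map_mul' := fun w w' => Subtype.ext (by simp [mul_assoc]) }
      have hφ : ∀ w : ↥(T : Subgroup X), (φ w : X) = d * w * d⁻¹ := fun _ => rfl
      have hφpow : ∀ (j : ℕ) (w : ↥(T : Subgroup X)), ((φ ^ j) w : X) = d ^ j * w * (d ^ j)⁻¹ := by
        intro j
        induction j with
        | zero => intro w; simp
        | succ j ih =>
          intro w
          rw [pow_succ', MulAut.mul_apply, hφ, ih, pow_succ']
          group
      have hfix : φ = 1 := by
        refine UThreeSylow.fix_all hut φ (odd_twoPt hC.setup hd) ?_ ?_ hxc ?_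
        · refine MulEquiv.ext fun w => Subtype.ext ?_
          rw [hφpow, pow_orderOf_eq_one]
          simp
        · intro w hw
          refine Subtype.ext ?_
          rw [hφ, (centralizer_cent hC hn hF e hx2 hx21 ((hinv w).1 hw) hds).eq, mul_inv_cancel_right]
        · exact (hinv _).2 hdx
      refine hC.eq_one_of_centralizing (odd_twoPt hC.setup hd) fun w hw => ?_
      have h1 := congrArg (fun ψ : MulAut ↥(T : Subgroup X) => ((ψ ⟨w, hw⟩ : ↥(T : Subgroup X)) : X)) hfix
      exact mul_inv_eq_iff_eq_mul.1 h1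
    have hge : (Nat.card ↥(twoPt X a t) + 1) * q ≤ Nat.card ↥B := by
      rw [← Finite.card_option, ← hncard, ← Nat.card_coe_set_eq, ← Nat.card_prod]
      let f : Option ↥(twoPt X a t) × ↥(involSet (T : Subgroup X)) → ↥B := fun p =>
        ⟨(p.1.elim 1 fun d => (d : X) * x * (d : X)⁻¹) * p.2, by
          refine mul_mem ?_ (hsub p.2.2)
          rcases p.1 with _ | d
          · exact one_mem B
          · exact hinvB _ (hC.mem_stab.1 d.2.1) x hx⟩
      refine Nat.card_le_card_of_injective f ?_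
      rintro ⟨o, w⟩ ⟨o', w'⟩ h
      have h' := congrArg Subtype.val h
      suffices ho : o = o' by
        subst ho
        exact Prod.ext rfl (Subtype.ext (mul_left_cancel h'))
      have hnot : ∀ (d : ↥(twoPt X a t)) (w w' : ↥(involSet (T : Subgroup X))),
          (1 : X) * w ≠ (d : X) * x * (d : X)⁻¹ * w' := fun d w w' h => hxZ (by
        have h1 : (d : X) * x * (d : X)⁻¹ ∈ involSet (T : Subgroup X) := by
          have := hC.mul_invol w.2 (hC.inv_invol w'.2)
          rwa [← one_mul (w : X), h, mul_inv_cancel_right] at this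
        have h2 := hC.conj_invol (inv_mem (hC.mem_stab.1 d.2.1)) h1
        rwa [inv_inv, show (d : X)⁻¹ * ((d : X) * x * (d : X)⁻¹) * (d : X) = x by group] at h2)
      rcases o with _ | d <;> rcases o' with _ | d'
      · rfl
      · exact absurd h' (hnot d' w w')
      · exact absurd h'.symm (hnot d w' w)
      · have h1 : (d' : X) * x * (d' : X)⁻¹ = (d : X) * x * (d : X)⁻¹ * ((w : X) * (w' : X)⁻¹) := by
          rw [← mul_assoc, eq_mul_inv_iff_mul_eq]
          exact h'.symm
        have h2 : x⁻¹ * ((d : X)⁻¹ * d' * x * ((d : X)⁻¹ * d')⁻¹) ∈ involSet (T : Subgroup X) := by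
          have := hC.conj_invol (inv_mem (hC.mem_stab.1 d.2.1)) (hC.mul_invol w.2 (hC.inv_invol w'.2))
          rw [inv_inv] at this
          rwa [show x⁻¹ * ((d : X)⁻¹ * d' * x * ((d : X)⁻¹ * d')⁻¹) =
            x⁻¹ * ((d : X)⁻¹ * ((d' : X) * x * (d' : X)⁻¹) * d) by group, h1,
            show x⁻¹ * ((d : X)⁻¹ * ((d : X) * x * (d : X)⁻¹ * ((w : X) * (w' : X)⁻¹)) * d) =
              (d : X)⁻¹ * ((w : X) * (w' : X)⁻¹) * d by group]
        have h3 := hfree _ (mul_mem (inv_mem d.2) d'.2) h2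
        exact congrArg some (Subtype.ext (inv_mul_eq_one.1 h3))
    have h5 : (q + 1) * q ≤ q * q :=
      (Nat.mul_le_mul_right q (by omega : q + 1 ≤ Nat.card ↥(twoPt X a t) + 1)).trans (hge.trans hle)
    rw [add_mul, one_mul] at h5
    omega
  · intro m hm hdvd
    rw [hut.card] at hm
    have hm2 : m = q ^ 2 := Nat.eq_of_mul_eq_mul_right (show 0 < q by omega) (hm.trans (by ring))
    subst hm2
    have hev : Even q := Nat.even_pow.2 ⟨even_two, by omega⟩
    have hodd : Odd (q ^ 2 + 1) := (hev.pow_of_ne_zero two_ne_zero).add_one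
    have hone : ∀ k, k ∣ q ^ 2 + 1 → k ∣ 2 → k = 1 := fun k h1 h2 =>
      Nat.eq_one_of_dvd_coprimes hodd.coprime_two_right h1 h2
    have c1 : Nat.Coprime (q ^ 2 + 1) (q ^ 3) := by
      refine Nat.Coprime.pow_right 3 (Nat.coprime_of_dvd' fun k _ h1 h2 => ?_)
      exact (Nat.dvd_add_right (h2.trans (dvd_pow_self q two_ne_zero))).1 h1
    have c2 : Nat.Coprime (q ^ 2 + 1) (q ^ 2 - 1) := Nat.coprime_of_dvd' fun k hk h1 h2 => by
      have h3 : k ∣ 2 := by
        have := Nat.dvd_sub h1 h2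
        rwa [show q ^ 2 + 1 - (q ^ 2 - 1) = 2 by
          have := Nat.one_le_pow 2 q (by omega)
          omega] at this
      exact absurd (hone k h1 h3) hk.ne_one
    have c3 : Nat.Coprime (q ^ 2 + 1) (q ^ 3 + 1) := Nat.coprime_of_dvd' fun k hk h1 h2 => by
      have h3 : k ∣ q - 1 := by
        have h4 : q * (q ^ 2 + 1) = (q ^ 3 + 1) + (q - 1) := by
          have : q * (q ^ 2 + 1) = q ^ 3 + q := by ring
          omega
        exact (Nat.dvd_add_right h2).1 (h4 ▸ h1.mul_left q)
      have h5 : k ∣ q ^ 2 - 1 := h3.trans (Dvd.intro (q + 1) (by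
        rw [show q ^ 2 - 1 = q ^ 2 - 1 ^ 2 by norm_num, Nat.sq_sub_sq, mul_comm]))
      exact absurd (Nat.eq_one_of_dvd_coprimes c2 h1 h5) hk.ne_one
    have h := hdvd.trans (RootSz.psu_dvd (n := n) e hF (by omega))
    have := Nat.eq_one_of_dvd_coprimes (c1.mul_right (c3.mul_right c2)) dvd_rfl h
    have := Nat.one_le_pow 2 q (by omega)
    omega

end CfsgLib.Goldschmidt.RankOne
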