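import Cfsg.Agent.Lib.Goldschmidt.RankOne.Setup
import Cfsg.Agent.Lib.PCore.Basic

/-!
A simple group with a strongly embedded subgroup satisfies the requirements on components, given a few
facts on its Sylow 2-subgroup and its order.
-/

set_option autoImplicit false
set_option linter.unusedSectionVars false
set_option linter.style.haveILetI false

namespace CfsgLib.Goldschmidt.RankOne

open Subgroup MulAction CfsgLib.RankOneInvol

universe u v

local instance : Fact (Nat.Prime 2) := ⟨Nat.prime_two⟩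

variable {X : Type u} [Group X]

/-- What is used on a Sylow 2-subgroup `T` with `q` elements of order at most two. -/
structure Props (T : Sylow 2 X) (q : ℕ) : Prop where
  four : 4 ≤ q
  ncard : (involSet (T : Subgroup X)).ncard = q
  sq : ∀ x ∈ (T : Subgroup X), x * x ∈ involSet (T : Subgroup X)
  irred : ∀ B : Subgroup X, B ≤ (T : Subgroup X) → IsMulCommutative ↥B →
    involSet (T : Subgroup X) ⊆ (B : Set X) →
    (∀ n ∈ normalizer ((T : Subgroup X) : Set X), ∀ x ∈ B, n * x * n⁻¹ ∈ B) →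
    (B : Set X) ⊆ involSet (T : Subgroup X)
  ndvd : ∀ m : ℕ, m * q = Nat.card ↥(T : Subgroup X) → ¬ m + 1 ∣ Nat.card X

namespace Ctx

variable {Ω : Type v} [MulAction X Ω] {a : Ω} {t : X} {T : Sylow 2 X} (hC : Ctx Ω a t T) [Finite X]

include hC

theorem cycle_field : ∃ g ∈ normalizer ((T : Subgroup X) : Set X), Odd (orderOf g) ∧
    (∀ x ∈ involSet (T : Subgroup X), x ≠ 1 → ∀ y ∈ involSet (T : Subgroup X), y ≠ 1 →
      ∃ i : ℕ, g ^ i * x * (g ^ i)⁻¹ = y) ∧
    ∀ φ : MulAut X, (∀ x ∈ (T : Subgroup X), φ x ∈ (T : Subgroup X)) → ∃ i : ℕ,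
      ∀ x ∈ involSet (T : Subgroup X), φ (g * x * g⁻¹) = g ^ i * φ x * (g ^ i)⁻¹ := by
  obtain ⟨k₀, hk₀, hk⟩ := hC.exists_gen
  have hk₀' : k₀ ∈ invSet X a t := (hk k₀).2 (mem_zpowers k₀)
  have hnat : ∀ {k}, k ∈ invSet X a t → ∃ i : ℕ, k₀ ^ i = k := fun {k} h =>
    mem_powers_iff_mem_zpowers.2 ((hk k).1 h)
  refine ⟨k₀, hC.invSet_normalizer hk₀', odd_twoPt hC.setup hk₀, ?_, ?_⟩
  · intro x hx hx1 y hy hy1
    obtain ⟨k, hkm, e⟩ := hC.exists_conj hx hx1 hy hy1
    obtain ⟨i, hi⟩ := hnat (inv_mem_invSet hC.setup hkm)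
    exact ⟨i, by rw [hi, inv_inv, e]⟩
  · intro φ hφ
    obtain ⟨r, hr, ψ, rfl, hψT, hψt⟩ := hC.exists_twist hφ
    obtain ⟨i, hi⟩ := hnat (hC.aut_invSet hψT hψt hk₀')
    refine ⟨i, fun x hx => ?_⟩
    have hfix : ∀ y ∈ involSet (T : Subgroup X), (MulAut.conj r * ψ) y = ψ y := fun y hy => by
      have h1 : ψ y ∈ involSet (T : Subgroup X) := ⟨hψT y hy.1, by rw [← map_pow, hy.2, map_one]⟩
      rw [MulAut.mul_apply, MulAut.conj_apply, ← hC.central h1 hr, mul_inv_cancel_right]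
    rw [hfix _ (hC.conj_invol (hC.invSet_normalizer hk₀') hx), hfix x hx, map_mul, map_mul, map_inv,
      hi]

theorem four_le_ncard : 4 ≤ (involSet (T : Subgroup X)).ncard := by
  obtain ⟨x, hx, hx1⟩ := hC.exists_invol
  obtain ⟨k, hk, hk1⟩ := exists_invSet_ne_one hC.setup hC.two
  set y := k⁻¹ * x * k with hy
  have hym : y ∈ involSet (T : Subgroup X) := by
    have := hC.conj_invol (inv_mem (hC.invSet_normalizer hk)) hx
    rwa [inv_inv] at this
  have hy1 : y ≠ 1 := fun e => hx1 (by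
    calc x = k * y * k⁻¹ := by rw [hy]; group
      _ = 1 := by rw [e]; group)
  have hxy : x ≠ y := fun e => hk1 (hC.eq_one_of_commute hk hx hx1 (by
    calc k * x = k * y := by rw [← e]
      _ = x * k := by rw [hy]; group))
  have hz1 : x * y ≠ 1 := fun e => hxy (by
    rw [eq_inv_of_mul_eq_one_left e, hC.eq_inv hym])
  have hsub : ({1, x, y, x * y} : Set X) ⊆ involSet (T : Subgroup X) := by
    intro w hw
    simp only [Set.mem_insert_iff, Set.mem_singleton_iff] at hw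
    rcases hw with rfl | rfl | rfl | rfl
    exacts [⟨one_mem _, one_pow 2⟩, hx, hym, hC.mul_invol hx hym]
  refine le_trans ?_ (Set.ncard_le_ncard hsub (Set.toFinite _))
  rw [Set.ncard_insert_of_notMem, Set.ncard_insert_of_notMem, Set.ncard_pair]
  · exact fun e => hx1 (right_eq_mul.1 e)
  · simp only [Set.mem_insert_iff, Set.mem_singleton_iff, not_or]
    exact ⟨hxy, fun e => hy1 (left_eq_mul.1 e)⟩
  · simp only [Set.mem_insert_iff, Set.mem_singleton_iff, not_or]
    exact ⟨Ne.symm hx1, Ne.symm hy1, Ne.symm hz1⟩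

theorem coreFree_field [IsSimpleGroup X] {d : X} (hd : d ∈ involSet (T : Subgroup X)) (hd1 : d ≠ 1) :
    Cfsg.centralizerPPrimeCore 2 d = ⊥ := by
  rw [Cfsg.centralizerPPrimeCore, map_eq_bot_iff_of_injective _ (subtype_injective _), eq_bot_iff]
  intro o ho
  set O := Cfsg.pPrimeCore 2 ↥(centralizer ({d} : Set X))
  have hOn : O.Normal := Cfsg.pPrimeCore_normal 2 _
  have hodd : ∀ w ∈ O, Odd (orderOf (w : X)) := fun w hw => by
    rw [orderOf_coe]
    refine Odd.of_dvd_nat (Nat.odd_iff.2 (Nat.two_dvd_ne_zero.1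
      (PCore.not_dvd_card_pPrimeCore (p := 2) (G := ↥(centralizer ({d} : Set X)))))) ?_
    exact orderOf_dvd_natCard O hw
  refine mem_bot.2 (Subtype.ext (hC.eq_one_of_centralizing (hodd o ho) fun x hx => ?_))
  have hxC : x ∈ centralizer ({d} : Set X) := hC.le_centralizer hd hx
  have hcomm : o * ⟨x, hxC⟩ * o⁻¹ * (⟨x, hxC⟩ : ↥(centralizer ({d} : Set X)))⁻¹ ∈ O := by
    rw [mul_assoc, mul_assoc]
    refine mul_mem ho ?_
    rw [← mul_assoc]
    exact hOn.conj_mem _ (inv_mem ho) _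
  have hT : (o : X) * x * (o : X)⁻¹ * x⁻¹ ∈ (T : Subgroup X) :=
    mul_mem ((mem_normalizer_iff.1 (hC.centralizer_le hd hd1 o.2) x).1 hx) (inv_mem hx)
  have h1 : (o : X) * x * (o : X)⁻¹ * x⁻¹ = 1 := by
    obtain ⟨k, hk⟩ := IsPGroup.iff_orderOf.1 T.2 ⟨_, hT⟩
    rw [Subgroup.orderOf_mk] at hk
    have h2 : Odd (orderOf ((o : X) * x * (o : X)⁻¹ * x⁻¹)) := hodd _ hcomm
    refine orderOf_eq_one_iff.1 (Nat.eq_one_of_dvd_coprimes
      (Nat.Coprime.pow_left k h2.coprime_two_left) (dvd_of_eq hk) dvd_rfl)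
  exact mul_inv_eq_iff_eq_mul.1 (mul_inv_eq_one.1 h1)

theorem rigid_field {d : X} (hd : d ∈ involSet (T : Subgroup X)) {φ : MulAut X}
    (hodd : Odd (orderOf φ)) (hfix : ∀ x : X, x * d = d * x → φ x = x) : φ = 1 :=
  hC.eq_one_of_fix_sylow hodd fun x hx => hfix x (hC.central hd hx).symm

variable {q : ℕ} (hP : Props T q)
include hP

theorem sc_field (B : Subgroup X) (hsc : Cfsg.IsStronglyClosed B (T : Subgroup X))
    (hB : IsMulCommutative ↥B) (hne : B ≠ ⊥) : (B : Set X) = involSet (T : Subgroup X) := by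
  obtain ⟨y, hy2⟩ : ∃ y : ↥B, orderOf y = 2 := by
    refine exists_prime_orderOf_dvd_card' 2 ?_
    obtain ⟨k, hk⟩ := IsPGroup.iff_card.1 (T.2.to_le hsc.1)
    rcases k with _ | k
    · rw [pow_zero] at hk
      exact absurd (eq_bot_of_card_eq B hk) hne
    · exact hk ▸ dvd_pow_self 2 k.succ_ne_zero
  have hy : (y : X) ∈ involSet (T : Subgroup X) := ⟨hsc.1 y.2, by
    rw [← orderOf_dvd_iff_pow_eq_one, orderOf_coe, hy2]⟩
  have hy1 : (y : X) ≠ 1 := fun e => by
    rw [← orderOf_coe, e, orderOf_one] at hy2; omega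
  have hsub : involSet (T : Subgroup X) ⊆ (B : Set X) := fun x hx => by
    rcases eq_or_ne x 1 with rfl | hx1
    · exact one_mem B
    · obtain ⟨k, -, e⟩ := hC.exists_conj hy hy1 hx hx1
      have h1 := hsc.2 (y : X) y.2 k⁻¹
      rw [inv_inv, e] at h1
      exact h1 hx.1
  exact Set.Subset.antisymm (hP.irred B hsc.1 hB hsub fun n hn x hx =>
    hsc.2 x hx n ((mem_normalizer_iff.1 hn x).1 (hsc.1 hx))) hsub

theorem commutator_mem {x y : X} (hx : x ∈ (T : Subgroup X)) (hy : y ∈ (T : Subgroup X)) :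
    x * y * x⁻¹ * y⁻¹ ∈ involSet (T : Subgroup X) := by
  have h := hC.mul_invol (hC.mul_invol (hP.sq x hx) (hP.sq _ (mul_mem (inv_mem hx) hy)))
    (hP.sq y⁻¹ (inv_mem hy))
  rwa [show x * x * (x⁻¹ * y * (x⁻¹ * y)) * (y⁻¹ * y⁻¹) = x * y * x⁻¹ * y⁻¹ by group] at h

/-- A twisted automorphism fixing the involutions fixes the inverted set and `t`. -/
theorem fix_of_invol {ψ : MulAut X} (hψT : ∀ x ∈ (T : Subgroup X), ψ x ∈ (T : Subgroup X))
    (hψt : ψ t • a = t • a) (hψZ : ∀ x ∈ involSet (T : Subgroup X), ψ x = x) :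
    (∀ k ∈ invSet X a t, ψ k = k) ∧ ψ t = t := by
  have hK : ∀ k ∈ invSet X a t, ψ k = k := fun k hk => by
    obtain ⟨x, hx, hx1⟩ := hC.exists_invol
    have hkx : k⁻¹ * x * k ∈ involSet (T : Subgroup X) := by
      have := hC.conj_invol (inv_mem (hC.invSet_normalizer hk)) hx
      rwa [inv_inv] at this
    have e := hψZ _ hkx
    rw [map_mul, map_mul, map_inv, hψZ x hx] at e
    exact conj_invol_injective hC.setup (hC.invol_iff.1 ⟨hx, hx1⟩) (hC.aut_invSet hψT hψt hk) hk e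
  refine ⟨hK, ?_⟩
  obtain ⟨s, r, h⟩ := exists_paired_right hC.setup (isSwap_t hC.setup)
  obtain ⟨l, hl, el⟩ := swap_eq_conj_t hC.setup
    (⟨fun e => hC.setup.ne_one (ψ.injective (e.trans (map_one ψ).symm)),
      by rw [← map_mul, hC.setup.mul_self, map_one], hψt⟩ : IsSwap X a t (ψ t))
  have hlD := ((mem_invSet hC.setup).1 hl).1
  have hla : l • a = a := hlD.1
  obtain ⟨hs, hs1⟩ := hC.invol_iff.2 h.1
  have e := congrArg ψ h.2.2.2
  rw [map_mul, map_mul, map_mul, map_mul, map_inv, hψZ s hs, el] at e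
  have h' : IsPaired t a (T : Subgroup X) (l * s * l⁻¹) t (l * ψ r * l⁻¹) := by
    refine ⟨hC.invol_iff.1 ⟨hC.conj_invol (hC.invSet_normalizer hl) hs, fun e' => hs1 ?_⟩,
      isSwap_t hC.setup, Q_conj hC.setup hla (hψT r h.2.2.1), ?_⟩
    · rwa [mul_inv_eq_one, mul_eq_left] at e'
    calc t * (l * s * l⁻¹) * t = l * (l⁻¹ * t * l * s * (l⁻¹ * t * l)) * l⁻¹ := by group
      _ = (l * ψ r * l⁻¹)⁻¹ * t * (l * ψ r * l⁻¹) := by rw [e]; group
  have hls : l * s = s * l :=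
    mul_inv_eq_iff_eq_mul.1 (paired_right_unique hC.setup h h').1.symm
  rw [el, hC.eq_one_of_commute hl hs hs1 hls, inv_one, one_mul, mul_one]

/-- A twisted automorphism trivial on the involutions and modulo them is trivial. -/
theorem eq_one_of_twist {ψ : MulAut X} (hψT : ∀ x ∈ (T : Subgroup X), ψ x ∈ (T : Subgroup X))
    (hψt : ψ t • a = t • a) (hψZ : ∀ x ∈ involSet (T : Subgroup X), ψ x = x)
    (hmov : ∀ x ∈ (T : Subgroup X), ψ x * x⁻¹ ∈ involSet (T : Subgroup X)) : ψ = 1 := by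
  classical
  obtain ⟨hK, hfixt⟩ := hC.fix_of_invol hP hψT hψt hψZ
  let Z : Subgroup X :=
    { carrier := involSet (T : Subgroup X)
      one_mem' := ⟨one_mem _, one_pow 2⟩
      mul_mem' := fun {_ _} hx hy => hC.mul_invol hx hy
      inv_mem' := fun {_} hx => hC.inv_invol hx }
  let h : ↥(T : Subgroup X) →* ↥Z :=
    MonoidHom.mk' (fun x => ⟨ψ x * (x : X)⁻¹, hmov x x.2⟩) fun x y => Subtype.ext (by
      show ψ ((x : X) * y) * ((x : X) * y)⁻¹ = ψ x * (x : X)⁻¹ * (ψ y * (y : X)⁻¹)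
      have hc : ψ y * (y : X)⁻¹ * (x : X)⁻¹ = (x : X)⁻¹ * (ψ y * (y : X)⁻¹) :=
        hC.central (hmov y y.2) (inv_mem x.2)
      calc ψ ((x : X) * y) * ((x : X) * y)⁻¹ = ψ x * (ψ y * (y : X)⁻¹ * (x : X)⁻¹) := by
            rw [map_mul]; group
        _ = _ := by rw [hc]; group)
  have hh : ∀ x : ↥(T : Subgroup X), ((h x : ↥Z) : X) = ψ x * (x : X)⁻¹ := fun _ => rfl
  have hker : ∀ x : ↥(T : Subgroup X), x ∈ h.ker ↔ ψ x = x := fun x => by
    rw [MonoidHom.mem_ker, Subtype.ext_iff, hh, Subgroup.coe_one, mul_inv_eq_one]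
  suffices htriv : ∀ x : ↥(T : Subgroup X), h x = 1 by
    refine hC.eq_one_of_fix_points hψT fun g => ?_
    rcases hC.exists_point (g • a) with e | ⟨r, hr, e⟩
    · rw [(hC.aut_stab hψT).2 e, e]
    · rw [← mul_smul] at e
      rw [hC.aut_eq hψT e, e, map_mul, hfixt, (hker ⟨r, hr⟩).1 (htriv ⟨r, hr⟩)]
  by_contra hnt
  push Not at hnt
  obtain ⟨x₀, hx₀⟩ := hnt
  have hsurj : Function.Surjective h := fun z => by
    by_cases hz : (z : X) = 1
    · exact ⟨1, Subtype.ext (by rw [map_one]; exact hz.symm)⟩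
    obtain ⟨k, hk, e⟩ := hC.exists_conj (h x₀).2 (fun e => hx₀ (Subtype.ext e)) z.2 hz
    have hkx : k⁻¹ * (x₀ : X) * k ∈ (T : Subgroup X) := by
      have := (mem_normalizer_iff.1 (inv_mem (hC.invSet_normalizer hk)) x₀).1 x₀.2
      rwa [inv_inv] at this
    refine ⟨⟨_, hkx⟩, Subtype.ext ?_⟩
    rw [hh, ← e, hh]
    show ψ (k⁻¹ * x₀ * k) * (k⁻¹ * x₀ * k)⁻¹ = _
    rw [map_mul, map_mul, map_inv, hK k hk]
    group
  set m := Nat.card ↥h.ker with hm
  have hcard : m * q = Nat.card ↥(T : Subgroup X) := by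
    rw [← card_mul_index h.ker, index_ker, MonoidHom.range_eq_top.2 hsurj, card_top, hm,
      ← hP.ncard, ← Nat.card_coe_set_eq]
    rfl
  -- the fixed points
  let C : Subgroup X := MonoidHom.eqLocus ψ.toMonoidHom (MonoidHom.id X)
  have hCmem : ∀ g : X, g ∈ C ↔ ψ g = g := fun _ => Iff.rfl
  let f : Option ↥h.ker → Ω := fun o => o.elim a fun x => ((x : ↥(T : Subgroup X)) : X) • t • a
  have hf : Function.Injective f := by
    have hne : ∀ x : ↥h.ker, ((x : ↥(T : Subgroup X)) : X) • t • a ≠ a := fun x e =>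
      ta_ne hC.setup (MulAction.injective (((x : ↥(T : Subgroup X)) : X))
        (e.trans (hC.smul_of_mem (x : ↥(T : Subgroup X)).2).symm))
    rintro (_ | x) (_ | x') e
    · rfl
    · exact absurd e.symm (hne x')
    · exact absurd e (hne x)
    · exact congrArg some (Subtype.ext (Subtype.ext
        (Q_inj hC.setup (x : ↥(T : Subgroup X)).2 (x' : ↥(T : Subgroup X)).2 e)))
  have horb : orbit ↥C a = Set.range f := by
    ext c
    constructor
    · rintro ⟨⟨g, hg⟩, rfl⟩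
      show g • a ∈ Set.range f
      rcases hC.exists_point (g • a) with e | ⟨r, hr, e⟩
      · exact ⟨none, e.symm⟩
      · rw [← mul_smul] at e
        have e2 := hC.aut_eq hψT e
        rw [(hCmem g).1 hg, map_mul, hfixt, e, mul_smul, mul_smul] at e2
        have e3 := Q_inj hC.setup hr (hψT r hr) e2
        refine ⟨some ⟨⟨r, hr⟩, (hker _).2 e3.symm⟩, ?_⟩
        show r • t • a = g • a
        rw [e, mul_smul]
    · rintro ⟨o, rfl⟩
      rcases o with _ | x
      · exact ⟨1, one_smul _ a⟩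
      · exact ⟨⟨((x : ↥(T : Subgroup X)) : X) * t,
          mul_mem ((hCmem _).2 ((hker _).1 x.2)) ((hCmem t).2 hfixt)⟩, mul_smul _ _ a⟩
  refine hP.ndvd m hcard ?_
  rw [hm, ← Finite.card_option, ← Nat.card_range_of_injective hf, Nat.card_coe_set_eq, ← horb,
    ← index_stabilizer]
  exact (index_dvd_card _).trans (card_subgroup_dvd_card C)

theorem inner_field {φ : MulAut X} (hfix : ∀ x ∈ involSet (T : Subgroup X), φ x = x)
    (hmov : ∀ x ∈ (T : Subgroup X), φ x * x⁻¹ ∈ involSet (T : Subgroup X)) :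
    ∃ z ∈ (T : Subgroup X), φ = MulAut.conj z := by
  have hφT : ∀ x ∈ (T : Subgroup X), φ x ∈ (T : Subgroup X) := fun x hx => by
    simpa using mul_mem (hmov x hx).1 hx
  obtain ⟨r, hr, ψ, rfl, hψT, hψt⟩ := hC.exists_twist hφT
  have hψ : ∀ x, ψ x = r⁻¹ * (MulAut.conj r * ψ) x * r := fun x => by
    rw [MulAut.mul_apply, MulAut.conj_apply]; group
  have hψZ : ∀ x ∈ involSet (T : Subgroup X), ψ x = x := fun x hx => by
    rw [hψ, hfix x hx, mul_assoc, hC.central hx hr, inv_mul_cancel_left]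
  refine ⟨r, hr, ?_⟩
  rw [hC.eq_one_of_twist hP hψT hψt hψZ fun x hx => ?_, mul_one]
  have hz := hmov x hx
  set z := (MulAut.conj r * ψ) x * x⁻¹ with hzdef
  have hc := hC.central hz (inv_mem hr)
  have e : ψ x * x⁻¹ = z * (r⁻¹ * x * r⁻¹⁻¹ * x⁻¹) := by
    calc ψ x * x⁻¹ = r⁻¹ * z * x * r * x⁻¹ := by rw [hψ, hzdef]; group
      _ = z * r⁻¹ * x * r * x⁻¹ := by rw [hc]
      _ = _ := by group
  rw [e]
  exact hC.mul_invol hz (hC.commutator_mem hP (inv_mem hr) hx)

end Ctx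

/-- A simple group with a strongly embedded subgroup and such Sylow 2-subgroups is `AGood`. -/
theorem agood_of_props [Finite X] [IsSimpleGroup X] (hna : ∃ a b : X, a * b ≠ b * a)
    {H : Subgroup X} (hH : Cfsg.IsStronglyEmbedded H)
    (hP : ∀ T : Sylow 2 X, ∀ (a : X ⧸ H) (t : X), Ctx (X ⧸ H) a t T → ∃ q, Props T q) :
    AGood X := by
  have key : ∀ T : Sylow 2 X, ∃ (a : X ⧸ H) (t : X) (q : ℕ), Ctx (X ⧸ H) a t T ∧ Props T q :=
    fun T => by
      obtain ⟨a, t, hC⟩ := exists_ctx hna hH T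
      obtain ⟨q, hq⟩ := hP T a t hC
      exact ⟨a, t, q, hC, hq⟩
  refine
    { central := fun T x hx y hy => ?_
      four_le := fun T => ?_
      sc_eq := fun T B hsc hB hne => ?_
      exists_cycle := fun T => ?_
      inner := fun T φ _ hfix hmov => ?_
      coreFree := fun T _ d hd hd1 => ?_
      rigid := fun T D hD h8 φ hodd hfix => ?_ }
  all_goals obtain ⟨a, t, q, hC, hq⟩ := key T
  · exact hC.central hx hy
  · exact hC.four_le_ncard
  · exact hC.sc_field hq B hsc hB hne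
  · exact hC.cycle_field
  · exact hC.inner_field hq hfix hmov
  · exact hC.coreFree_field hd hd1
  · obtain ⟨d, hd, hd1⟩ : ∃ d ∈ D, d ≠ 1 := by
      by_contra hc
      push Not at hc
      have : D = ⊥ := (eq_bot_iff_forall D).2 hc
      rw [this, card_bot] at h8
      omega
    exact hC.rigid_field (hD hd) hodd (hfix d hd hd1)

end CfsgLib.Goldschmidt.RankOne
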