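import Cfsg.Agent.Lib.Goldschmidt.Defs
import Cfsg.Agent.Lib.BenderQ.Classify
import Cfsg.Agent.Lib.BenderQ.Bender
import Cfsg.Agent.Lib.RankOneInvol.Twist

/-!
A simple group with a strongly embedded subgroup as a rank one group at every Sylow 2-subgroup, and the
automorphisms fixing two points.
-/

set_option autoImplicit false
set_option linter.unusedSectionVars false
set_option linter.style.haveILetI false

namespace CfsgLib.Goldschmidt.RankOne

open Subgroup MulAction CfsgLib.RankOneInvol CfsgLib.BenderTrans CfsgLib.BenderQ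

universe u v

local instance : Fact (Nat.Prime 2) := ⟨Nat.prime_two⟩

variable {X : Type u} [Group X]

/-- The rank one set-up at a Sylow 2-subgroup. -/
structure Ctx (Ω : Type v) [MulAction X Ω] (a : Ω) (t : X) (T : Sylow 2 X) : Prop where
  setup : Cfsg.IsRankOneSetup X Ω a t (T : Subgroup X)
  two : ∃ x y : X, x ≠ 1 ∧ y ≠ 1 ∧ x ≠ y ∧ x * x = 1 ∧ y * y = 1 ∧ x * y = y * x
  faith : ∀ g : X, (∀ c : Ω, g • c = c) → g = 1
  stab : stabilizer X a = normalizer ((T : Subgroup X) : Set X)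

theorem exists_ctx [Finite X] [IsSimpleGroup X] (hna : ∃ a b : X, a * b ≠ b * a)
    {H : Subgroup X} (hH : Cfsg.IsStronglyEmbedded H) (T : Sylow 2 X) :
    ∃ (a : X ⧸ H) (t : X), Ctx (X ⧸ H) a t T := by
  have h := oneFix_of_stronglyEmbedded hH
  have hf := hasFour_of_simple hna hH
  have hfaith : ∀ g : X, (∀ c : X ⧸ H, g • c = c) → g = 1 := fun g hg => by
    have h1 : g ∈ H.normalCore := fun x => by
      have h2 : ((g * x⁻¹ : X) : X ⧸ H) = ((x⁻¹ : X) : X ⧸ H) := hg ((x⁻¹ : X) : X ⧸ H)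
      have h3 := QuotientGroup.eq.1 h2.symm
      simpa [mul_assoc] using h3
    rwa [normalCore_eq_bot hH, Subgroup.mem_bot] at h1
  have hker : ∀ c : X ⧸ H, ∃ Q : Subgroup X, IsKernelAt c Q := fun c =>
    isKernelAt_of_hasKernelAt (benderKernel X (X ⧸ H) h hfaith hf c)
  obtain ⟨Q₀, hQ₀⟩ := hker ((1 : X) : X ⧸ H)
  obtain ⟨S, hS⟩ := hQ₀.exists_sylow h
  obtain ⟨g, hg⟩ := MulAction.exists_smul_eq X S T
  obtain ⟨Q, hQ⟩ := hker (g • ((1 : X) : X ⧸ H))
  have hst : stabilizer X (g • ((1 : X) : X ⧸ H)) = normalizer ((T : Subgroup X) : Set X) := by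
    rw [stabilizer_smul_eq_stabilizer_map_conj, ← hQ₀.normalizer_eq h, ← hS, ← hg,
      Sylow.coe_subgroup_smul]
    exact Subgroup.map_equiv_normalizer_eq _ (MulAut.conj g)
  have hQT : Q = (T : Subgroup X) := by
    obtain ⟨R, hR⟩ := hQ.exists_sylow h
    have hle : Q ≤ normalizer ((T : Subgroup X) : Set X) := hst ▸ hQ.le
    have h1 : IsPGroup 2 (Q ⊔ (T : Subgroup X) : Subgroup X) :=
      hQ.isTwo.to_sup_of_normal_right' T.2 hle
    have h2 : Q ≤ (T : Subgroup X) := le_sup_left.trans (T.3 h1 le_sup_right).le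
    exact le_antisymm h2 (hR ▸ (R.3 T.2 (hR ▸ h2)).le)
  obtain ⟨t, ht⟩ := exists_rankOneSetup h hQ
  obtain ⟨x, y, hx, hy, hne, hc⟩ := hf
  refine ⟨_, t, hQT ▸ ht, ⟨x, y, fun e => ?_, fun e => ?_, hne,
    CfsgLib.Involutions.mul_self_eq_one hx, CfsgLib.Involutions.mul_self_eq_one hy, hc.eq⟩, hfaith, hst⟩
  · rw [e, orderOf_one] at hx; omega
  · rw [e, orderOf_one] at hy; omega

namespace Ctx

variable {Ω : Type v} [MulAction X Ω] {a : Ω} {t : X} {T : Sylow 2 X} (hC : Ctx Ω a t T)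

include hC

theorem mem_stab {g : X} : g • a = a ↔ g ∈ normalizer ((T : Subgroup X) : Set X) := by
  rw [← hC.stab, mem_stabilizer_iff]

theorem smul_of_mem {x : X} (hx : x ∈ (T : Subgroup X)) : x • a = a :=
  Q_smul hC.setup hx

theorem exists_point (c : Ω) : c = a ∨ ∃ q ∈ (T : Subgroup X), c = q • t • a := by
  by_cases h : c = a
  · exact Or.inl h
  · obtain ⟨q, hq, e⟩ := Q_trans hC.setup h
    exact Or.inr ⟨q, hq, e.symm⟩

variable [Finite X]

theorem card_points : Nat.card Ω = Nat.card ↥(T : Subgroup X) + 1 := by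
  classical
  haveI : Finite Ω := finite_omega hC.setup
  let f : Option ↥(T : Subgroup X) → Ω := fun o => o.elim a fun q => (q : X) • t • a
  have hne : ∀ q : ↥(T : Subgroup X), (q : X) • t • a ≠ a := fun q e =>
    ta_ne hC.setup (MulAction.injective (q : X) (e.trans (hC.smul_of_mem q.2).symm))
  have hf : Function.Bijective f := by
    constructor
    · rintro (_ | q) (_ | q') e
      · rfl
      · exact absurd e.symm (hne q')
      · exact absurd e (hne q)
      · exact congrArg some (Subtype.ext (Q_inj hC.setup q.2 q'.2 e))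
    · intro c
      rcases hC.exists_point c with h | ⟨q, hq, h⟩
      · exact ⟨none, h.symm⟩
      · exact ⟨some ⟨q, hq⟩, h.symm⟩
  rw [← Nat.card_eq_of_bijective f hf, Finite.card_option]

theorem card_stab :
    Nat.card ↥(stabilizer X a) = Nat.card ↥(T : Subgroup X) * Nat.card ↥(twoPt X a t) := by
  let f : ↥(T : Subgroup X) × ↥(twoPt X a t) → ↥(stabilizer X a) := fun p =>
    ⟨(p.1 : X) * p.2, mul_mem (hC.setup.le p.1.2) (inf_le_left (b := stabilizer X (t • a)) p.2.2)⟩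
  have hf : Function.Bijective f := by
    constructor
    · rintro ⟨q, d⟩ ⟨q', d'⟩ e
      obtain ⟨h1, h2⟩ := decomp_unique hC.setup q.2 q'.2 d.2 d'.2 (congrArg Subtype.val e)
      exact Prod.ext (Subtype.ext h1) (Subtype.ext h2)
    · rintro ⟨g, hg⟩
      obtain ⟨q, hq, d, hd, e⟩ := decomp hC.setup (mem_stabilizer_iff.1 hg)
      exact ⟨(⟨q, hq⟩, ⟨d, hd⟩), Subtype.ext e.symm⟩
  rw [← Nat.card_eq_of_bijective f hf, Nat.card_prod]

theorem card_group : Nat.card X =
    (Nat.card ↥(T : Subgroup X) + 1) * (Nat.card ↥(T : Subgroup X) * Nat.card ↥(twoPt X a t)) := by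
  haveI := hC.setup.two_transitive
  rw [← hC.card_points, ← hC.card_stab, ← card_mul_index (stabilizer X a), index_stabilizer,
    show orbit X a = Set.univ from Set.eq_univ_of_forall fun c => exists_smul hC.setup c,
    Set.ncard_univ, mul_comm]

/-! ### The involutions at the point -/

theorem invol_mem {x : X} :
    x ∈ Cfsg.involutionsIn (stabilizer X a : Set X) ↔ x ∈ (T : Subgroup X) ∧ x ≠ 1 ∧ x * x = 1 := by
  rw [mem_invols]
  exact ⟨fun h => ⟨inv_mem_Q_of_fixed hC.setup h.2.2 h.1, h.2⟩,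
    fun h => ⟨hC.smul_of_mem h.1, h.2⟩⟩

theorem invol_iff {x : X} :
    x ∈ involSet (T : Subgroup X) ∧ x ≠ 1 ↔ x ∈ Cfsg.involutionsIn (stabilizer X a : Set X) := by
  rw [hC.invol_mem]
  exact ⟨fun h => ⟨h.1.1, h.2, by rw [← pow_two]; exact h.1.2⟩,
    fun h => ⟨⟨h.1, by rw [pow_two]; exact h.2.2⟩, h.2.1⟩⟩

theorem central {x : X} (hx : x ∈ involSet (T : Subgroup X)) {y : X} (hy : y ∈ (T : Subgroup X)) :
    x * y = y * x := by
  by_cases h1 : x = 1
  · rw [h1, one_mul, mul_one]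
  · exact (invol_central hC.setup hC.two (hC.invol_iff.1 ⟨hx, h1⟩)).2 y hy

theorem mul_invol {x y : X} (hx : x ∈ involSet (T : Subgroup X)) (hy : y ∈ involSet (T : Subgroup X)) :
    x * y ∈ involSet (T : Subgroup X) := by
  refine ⟨mul_mem hx.1 hy.1, ?_⟩
  rw [(show Commute x y from hC.central hx hy.1).mul_pow, hx.2, hy.2, mul_one]

theorem inv_invol {x : X} (hx : x ∈ involSet (T : Subgroup X)) : x⁻¹ ∈ involSet (T : Subgroup X) :=
  ⟨inv_mem hx.1, by rw [inv_pow, hx.2, inv_one]⟩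

theorem conj_invol {n x : X} (hn : n ∈ normalizer ((T : Subgroup X) : Set X))
    (hx : x ∈ involSet (T : Subgroup X)) : n * x * n⁻¹ ∈ involSet (T : Subgroup X) :=
  ⟨(mem_normalizer_iff.1 hn x).1 hx.1, by rw [conj_pow, hx.2, mul_one, mul_inv_cancel]⟩

theorem eq_inv {x : X} (hx : x ∈ involSet (T : Subgroup X)) : x⁻¹ = x :=
  inv_eq_of_mul_eq_one_right (by rw [← pow_two]; exact hx.2)

/-- A generator of the inverted set. -/
theorem exists_gen : ∃ k₀ ∈ twoPt X a t, ∀ k, k ∈ invSet X a t ↔ k ∈ zpowers k₀ :=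
  (invSet_structure hC.setup hC.two).1

theorem invSet_comm {k l : X} (hk : k ∈ invSet X a t) (hl : l ∈ invSet X a t) : Commute k l := by
  obtain ⟨k₀, -, h⟩ := hC.exists_gen
  obtain ⟨i, rfl⟩ := mem_zpowers_iff.1 ((h k).1 hk)
  obtain ⟨j, rfl⟩ := mem_zpowers_iff.1 ((h l).1 hl)
  exact Commute.zpow_zpow_self k₀ i j

theorem invSet_normalizer {k : X} (hk : k ∈ invSet X a t) :
    k ∈ normalizer ((T : Subgroup X) : Set X) :=
  hC.mem_stab.1 ((mem_invSet hC.setup).1 hk).1.1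

theorem exists_conj {x y : X} (hx : x ∈ involSet (T : Subgroup X)) (hx1 : x ≠ 1)
    (hy : y ∈ involSet (T : Subgroup X)) (hy1 : y ≠ 1) : ∃ k ∈ invSet X a t, k⁻¹ * x * k = y := by
  obtain ⟨e, he⟩ := conj_invol_bijective hC.setup (hC.invol_iff.1 ⟨hx, hx1⟩)
  obtain ⟨k, hk⟩ := e.surjective ⟨y, hC.invol_iff.1 ⟨hy, hy1⟩⟩
  exact ⟨k, k.2, (he k).symm.trans (congrArg Subtype.val hk)⟩

theorem eq_one_of_commute {k x : X} (hk : k ∈ invSet X a t) (hx : x ∈ involSet (T : Subgroup X))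
    (hx1 : x ≠ 1) (hc : k * x = x * k) : k = 1 :=
  conj_invol_injective hC.setup (hC.invol_iff.1 ⟨hx, hx1⟩) hk (one_mem_invSet hC.setup)
    (by rw [inv_one, one_mul, mul_one, mul_assoc, ← hc]; group)

theorem exists_invol : ∃ x ∈ involSet (T : Subgroup X), x ≠ 1 := by
  obtain ⟨s, r, h⟩ := exists_paired_right hC.setup (isSwap_t hC.setup)
  exact ⟨s, (hC.invol_iff.2 h.1).1, (hC.invol_iff.2 h.1).2⟩

theorem le_centralizer {x : X} (hx : x ∈ involSet (T : Subgroup X)) :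
    (T : Subgroup X) ≤ centralizer ({x} : Set X) := fun _ hy =>
  mem_centralizer_singleton_iff.2 (hC.central hx hy).symm

theorem centralizer_le {x : X} (hx : x ∈ involSet (T : Subgroup X)) (hx1 : x ≠ 1) :
    centralizer ({x} : Set X) ≤ normalizer ((T : Subgroup X) : Set X) := fun g hg =>
  hC.mem_stab.1 (commute_fixed hC.setup hx1 (by rw [← pow_two]; exact hx.2)
    (mem_centralizer_singleton_iff.1 hg) (hC.smul_of_mem hx.1))

/-! ### Automorphisms fixing the point -/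

omit hC in
theorem aut_mem {φ : MulAut X} (hφ : ∀ x ∈ (T : Subgroup X), φ x ∈ (T : Subgroup X)) {x : X} :
    φ x ∈ (T : Subgroup X) ↔ x ∈ (T : Subgroup X) := by
  refine ⟨fun h => ?_, hφ x⟩
  have he : (T : Subgroup X).map φ.toMonoidHom = (T : Subgroup X) := by
    refine eq_of_le_of_card_ge ?_ ?_
    · rintro _ ⟨w, hw, rfl⟩
      exact hφ w hw
    · rw [card_map_of_injective φ.injective]
  obtain ⟨w, hw, e⟩ := (he.symm ▸ h : φ x ∈ (T : Subgroup X).map φ.toMonoidHom)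
  exact φ.injective e ▸ hw

theorem aut_stab {φ : MulAut X} (hφ : ∀ x ∈ (T : Subgroup X), φ x ∈ (T : Subgroup X)) {g : X} :
    φ g • a = a ↔ g • a = a := by
  rw [hC.mem_stab, hC.mem_stab, mem_normalizer_iff, mem_normalizer_iff]
  refine ⟨fun h x => ?_, fun h x => ?_⟩
  · have h1 := h (φ x)
    rwa [← map_inv, ← map_mul, ← map_mul, aut_mem hφ, aut_mem hφ] at h1
  · obtain ⟨w, rfl⟩ := φ.surjective x
    rw [← map_inv, ← map_mul, ← map_mul, aut_mem hφ, aut_mem hφ]
    exact h w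

theorem aut_eq {φ : MulAut X} (hφ : ∀ x ∈ (T : Subgroup X), φ x ∈ (T : Subgroup X)) {g g' : X}
    (h : g • a = g' • a) : φ g • a = φ g' • a := by
  rw [← inv_smul_eq_iff, ← mul_smul, ← map_inv, ← map_mul, hC.aut_stab hφ, mul_smul,
    inv_smul_eq_iff]
  exact h

theorem eq_one_of_fix_points {φ : MulAut X}
    (hφ : ∀ x ∈ (T : Subgroup X), φ x ∈ (T : Subgroup X))
    (hfix : ∀ g : X, φ g • a = g • a) : φ = 1 := by
  refine MulEquiv.ext fun x => ?_
  have h1 : x⁻¹ * φ x = 1 := hC.faith _ fun c => by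
    obtain ⟨g, rfl⟩ := exists_smul hC.setup c
    have h2 := hC.aut_eq hφ (g := g) (g' := g) rfl
    calc (x⁻¹ * φ x) • g • a = x⁻¹ • φ x • φ g • a := by rw [mul_smul, hfix g]
      _ = x⁻¹ • φ (x * g) • a := by rw [← mul_smul (φ x), ← map_mul]
      _ = g • a := by rw [hfix, ← mul_smul, inv_mul_cancel_left]
  exact (inv_mul_eq_one.1 h1).symm

theorem aut_fix {ψ : MulAut X} (hψT : ∀ x ∈ (T : Subgroup X), ψ x ∈ (T : Subgroup X))
    (hψt : ψ t • a = t • a) {d : X} (hd : d ∈ twoPt X a t) : ψ d ∈ twoPt X a t := by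
  obtain ⟨h1, h2⟩ := mem_twoPt.1 hd
  refine mem_twoPt.2 ⟨(hC.aut_stab hψT).2 h1, ?_⟩
  conv_lhs => rw [← hψt, ← mul_smul, ← map_mul]
  rw [← hψt]
  exact hC.aut_eq hψT (by rw [mul_smul]; exact h2)

/-- An automorphism fixing the two points normalises the inverted set. -/
theorem aut_invSet {ψ : MulAut X} (hψT : ∀ x ∈ (T : Subgroup X), ψ x ∈ (T : Subgroup X))
    (hψt : ψ t • a = t • a) {k : X} (hk : k ∈ invSet X a t) : ψ k ∈ invSet X a t := by
  have hsw : IsSwap X a t (ψ t) :=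
    ⟨fun e => hC.setup.ne_one (ψ.injective (e.trans (map_one ψ).symm)),
      by rw [← map_mul, hC.setup.mul_self, map_one], hψt⟩
  obtain ⟨l, hl, el⟩ := swap_eq_conj_t hC.setup hsw
  obtain ⟨hkD, hkt⟩ := (mem_invSet hC.setup).1 hk
  obtain ⟨hlD, -⟩ := (mem_invSet hC.setup).1 hl
  have h1 : l * ψ k * l⁻¹ ∈ invSet X a t := by
    refine (mem_invSet hC.setup).2
      ⟨mul_mem (mul_mem hlD (hC.aut_fix hψT hψt hkD)) (inv_mem hlD), ?_⟩
    have e := congrArg ψ hkt
    rw [map_mul, map_mul, map_inv, el] at e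
    calc t * (l * ψ k * l⁻¹) * t = l * (l⁻¹ * t * l * ψ k * (l⁻¹ * t * l)) * l⁻¹ := by group
      _ = (l * ψ k * l⁻¹)⁻¹ := by rw [e]; group
  have h2 := (hC.invSet_comm hl h1).eq
  have h3 : l * ψ k * l⁻¹ = ψ k := by
    calc l * ψ k * l⁻¹ = l⁻¹ * (l * (l * ψ k * l⁻¹)) := by group
      _ = l⁻¹ * ((l * ψ k * l⁻¹) * l) := by rw [h2]
      _ = ψ k := by group
  exact h3 ▸ h1

/-- An automorphism fixing a point, twisted to fix two. -/
theorem exists_twist {φ : MulAut X} (hφ : ∀ x ∈ (T : Subgroup X), φ x ∈ (T : Subgroup X)) :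
    ∃ q ∈ (T : Subgroup X), ∃ ψ : MulAut X, φ = MulAut.conj q * ψ ∧
      (∀ x ∈ (T : Subgroup X), ψ x ∈ (T : Subgroup X)) ∧ ψ t • a = t • a := by
  obtain ⟨q, hq, e⟩ := Q_trans hC.setup (c := φ t • a)
    fun h => ta_ne hC.setup ((hC.aut_stab hφ).1 h)
  refine ⟨q, hq, (MulAut.conj q)⁻¹ * φ, by group, fun x hx => ?_, ?_⟩
  · rw [MulAut.mul_apply, MulAut.conj_inv_apply]
    exact mul_mem (mul_mem (inv_mem hq) (hφ x hx)) hq
  · rw [MulAut.mul_apply, MulAut.conj_inv_apply, mul_smul, hC.smul_of_mem hq, mul_smul, ← e,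
      inv_smul_smul]

/-- An automorphism of odd order centralising the Sylow subgroup is trivial. -/
theorem eq_one_of_fix_sylow {φ : MulAut X} (hodd : Odd (orderOf φ))
    (hfix : ∀ x ∈ (T : Subgroup X), φ x = x) : φ = 1 := by
  have hφT : ∀ x ∈ (T : Subgroup X), φ x ∈ (T : Subgroup X) := fun x hx => by rwa [hfix x hx]
  obtain ⟨q, hq, e⟩ := Q_trans hC.setup (c := φ t • a)
    fun h => ta_ne hC.setup ((hC.aut_stab hφT).1 h)
  have hiter : ∀ j : ℕ, (φ ^ j) t • a = q ^ j • t • a := by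
    intro j
    induction j with
    | zero => rw [pow_zero, pow_zero, MulAut.one_apply, one_smul]
    | succ j ih =>
      rw [← mul_smul] at ih
      rw [pow_succ', MulAut.mul_apply, hC.aut_eq hφT ih, map_mul, hfix _ (pow_mem hq j), mul_smul,
        ← e, ← mul_smul, ← pow_succ]
  have hn : q ^ orderOf φ = 1 := by
    have h1 := hiter (orderOf φ)
    rw [pow_orderOf_eq_one, MulAut.one_apply] at h1
    exact eq_one_of_mem_Q hC.setup (pow_mem hq _) h1.symm
  have hq1 : q = 1 := by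
    obtain ⟨k, hk⟩ := IsPGroup.iff_orderOf.1 T.2 ⟨q, hq⟩
    rw [Subgroup.orderOf_mk] at hk
    refine orderOf_eq_one_iff.1 (Nat.eq_one_of_dvd_coprimes
      (Nat.Coprime.pow_left k hodd.coprime_two_left) (dvd_of_eq hk) (orderOf_dvd_of_pow_eq_one hn))
  rw [hq1, one_smul] at e
  refine hC.eq_one_of_fix_points hφT fun g => ?_
  rcases hC.exists_point (g • a) with h | ⟨r, hr, h⟩
  · rw [(hC.aut_stab hφT).2 h, h]
  · rw [← mul_smul] at h
    rw [hC.aut_eq hφT h, h, map_mul, hfix r hr, mul_smul, ← e, mul_smul]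

/-- An element of odd order centralising the Sylow subgroup is trivial. -/
theorem eq_one_of_centralizing [IsSimpleGroup X] {g : X} (hodd : Odd (orderOf g))
    (hfix : ∀ x ∈ (T : Subgroup X), g * x = x * g) : g = 1 := by
  have h1 : MulAut.conj g = 1 := hC.eq_one_of_fix_sylow
    (hodd.of_dvd_nat (orderOf_map_dvd _ g))
    fun x hx => by rw [MulAut.conj_apply, hfix x hx, mul_inv_cancel_right]
  refine hC.faith g fun c => ?_
  obtain ⟨w, rfl⟩ := exists_smul hC.setup c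
  have h2 : g * w * g⁻¹ = w := by rw [← MulAut.conj_apply, h1, MulAut.one_apply]
  have hg : g • a = a := by
    obtain ⟨s, hs, hs1⟩ := hC.exists_invol
    exact hC.mem_stab.2 (hC.centralizer_le hs hs1
      (mem_centralizer_singleton_iff.2 (hfix s hs.1)))
  rw [← mul_smul, show g * w = w * g from mul_inv_eq_iff_eq_mul.1 h2, mul_smul, hg]

end Ctx

end CfsgLib.Goldschmidt.RankOne
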