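import Cfsg.Agent.Lib.Goldschmidt.RankOne.Fields
import Cfsg.Agent.Lib.RootSz.Models

/-!
The facts on the Sylow 2-subgroups of the Suzuki groups used for `AGood`.
-/

set_option autoImplicit false
set_option linter.unusedSectionVars false
set_option linter.style.haveILetI false

namespace CfsgLib.Goldschmidt.RankOne

open Subgroup MulAction CfsgLib.RankOneInvol

universe u v

local instance : Fact (Nat.Prime 2) := ⟨Nat.prime_two⟩

variable {X : Type u} [Group X] [Finite X] {Ω : Type v} [MulAction X Ω] {a : Ω} {t : X} {T : Sylow 2 X}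
  (hC : Ctx Ω a t T) {F : Type} [Field F] [Fintype F] {m : ℕ}

include hC

theorem sz_props (hm : 1 ≤ m) (hF : Fintype.card F = 2 ^ (2 * m + 1))
    (e : X ≃* ↥(Cfsg.Lie.Sz F (2 ^ (m + 1)))) : Props T (Fintype.card F) := by
  classical
  have hSz : RootSz.SzType X (Fintype.card F) := (RootSz.szType hF hm).of_equiv e
  set q := Fintype.card F with hq
  obtain ⟨z, hz, hz1⟩ := hC.exists_invol
  have hzo : orderOf z = 2 := orderOf_eq_prime hz.2 hz1
  -- the centraliser of an involution is the Sylow subgroup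
  have hcz : centralizer ({z} : Set X) = (T : Subgroup X) :=
    T.3 (IsPGroup.of_card (n := (2 * m + 1) * 2) (by rw [hSz.cent_card z hzo, hF, ← pow_mul]))
      (hC.le_centralizer hz)
  have hT : Nat.card ↥(T : Subgroup X) = q ^ 2 := by rw [← hcz, hSz.cent_card z hzo]
  have hmem : ∀ x : X, x ∈ (T : Subgroup X) ↔ Commute x z := fun x => by
    rw [← hcz, mem_centralizer_singleton_iff]; exact Iff.rfl
  have hinv : involSet (T : Subgroup X) = insert 1 (RootSz.clique z) := by
    ext x
    constructor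
    · intro hx
      rcases eq_or_ne x 1 with rfl | hx1
      · exact Set.mem_insert 1 _
      · exact Set.mem_insert_of_mem _ ⟨orderOf_eq_prime hx.2 hx1, (hmem x).1 hx.1⟩
    · rintro (rfl | ⟨h1, h2⟩)
      · exact ⟨one_mem _, one_pow 2⟩
      · exact ⟨(hmem x).2 h2, by rw [← h1, pow_orderOf_eq_one]⟩
  have hncard : (involSet (T : Subgroup X)).ncard = q := by
    rw [hinv, Set.ncard_insert_of_notMem (fun h => by simpa using h.1), hSz.clique_card z hzo]
  have hsq : ∀ x ∈ (T : Subgroup X), x * x ∈ involSet (T : Subgroup X) := fun x hx => by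
    refine ⟨mul_mem hx hx, ?_⟩
    rcases hSz.cent_sq z x hzo ((hmem x).1 hx) with h | h
    · rw [h, one_pow]
    · rw [← h, pow_orderOf_eq_one]
  refine ⟨hSz.four, hncard, hsq, ?_, ?_⟩
  · intro B hBT hB hsub hinvB x hx
    by_contra hxZ
    have hx2 : x * x ∈ involSet (T : Subgroup X) := hsq x (hBT hx)
    have hx21 : x * x ≠ 1 := fun h => hxZ ⟨hBT hx, by rw [pow_two]; exact h⟩
    let Z : Subgroup X :=
      { carrier := involSet (T : Subgroup X)
        one_mem' := ⟨one_mem _, one_pow 2⟩
        mul_mem' := fun {_ _} h h' => hC.mul_invol h h'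
        inv_mem' := fun {_} h => hC.inv_invol h }
    let f : ↥B →* ↥Z := MonoidHom.mk' (fun b => ⟨(b : X) * b, hsq b (hBT b.2)⟩) fun b b' =>
      Subtype.ext (by
        have hc : Commute (b' : X) b := congrArg Subtype.val (hB.is_comm.comm b' b)
        exact hc.mul_mul_mul_comm (b : X) (b' : X))
    have hcardZ : Nat.card ↥Z = q := hncard ▸ (Nat.card_coe_set_eq _)
    have hsurj : f.range = ⊤ := MonoidHom.range_eq_top.2 fun w => by
      by_cases hw : (w : X) = 1
      · exact ⟨1, Subtype.ext (by rw [map_one]; exact hw.symm)⟩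
      · obtain ⟨k, hk, he⟩ := hC.exists_conj hx2 hx21 w.2 hw
        have hb : k⁻¹ * x * k ∈ B := by
          have := hinvB k⁻¹ (inv_mem (hC.invSet_normalizer hk)) x hx
          rwa [inv_inv] at this
        refine ⟨⟨_, hb⟩, Subtype.ext ?_⟩
        show k⁻¹ * x * k * (k⁻¹ * x * k) = w
        rw [← he]
        group
    have hker : Nat.card ↥f.ker = q := by
      rw [← hncard, ← Nat.card_coe_set_eq]
      exact Nat.card_congr
        { toFun := fun b => ⟨(b : ↥B), hBT (b : ↥B).2, by
            rw [pow_two]; exact congrArg Subtype.val (MonoidHom.mem_ker.1 b.2)⟩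
          invFun := fun w => ⟨⟨w, hsub w.2⟩, MonoidHom.mem_ker.2 (Subtype.ext (by
            show (w : X) * w = 1
            rw [← pow_two]; exact w.2.2))⟩
          left_inv := fun b => rfl
          right_inv := fun w => rfl }
    have hcard : Nat.card ↥B = q ^ 2 := by
      rw [← card_mul_index f.ker, index_ker, hsurj, card_top, hker, hcardZ, pow_two]
    have hBeq : B = (T : Subgroup X) := eq_of_le_of_card_ge hBT (by rw [hT, hcard])
    obtain ⟨u, w, hu, hw, huw⟩ := hSz.cent_nonab z hzo
    refine huw ?_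
    exact congrArg Subtype.val
      (hB.is_comm.comm (⟨u, hBeq ▸ (hmem u).2 hu⟩ : ↥B) ⟨w, hBeq ▸ (hmem w).2 hw⟩)
  · intro k hk hdvd
    rw [hT] at hk
    have hkq : k = q := Nat.eq_of_mul_eq_mul_right
      (show 0 < q by have := hSz.four; omega) (hk.trans (pow_two q))
    rw [hkq] at hdvd
    rw [hSz.card] at hdvd
    have h4 := hSz.four
    have hev : Even q := hF ▸ Nat.even_pow.2 ⟨even_two, by omega⟩
    have hone : ∀ p, p.Prime → p ∣ q + 1 → p ∣ 2 → False := fun p hp h1 h2 =>
      hp.ne_one (Nat.eq_one_of_dvd_coprimes hev.add_one.coprime_two_right h1 h2)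
    have c1 : Nat.Coprime (q + 1) (q ^ 2) := Nat.Coprime.pow_right 2 (Nat.coprime_of_dvd'
      fun p _ h1 h2 => (Nat.dvd_add_right h2).1 h1)
    have c2 : Nat.Coprime (q + 1) (q - 1) := Nat.coprime_of_dvd' fun p hp h1 h2 => by
      refine (hone p hp h1 ?_).elim
      have := Nat.dvd_sub h1 h2
      rwa [show q + 1 - (q - 1) = 2 by omega] at this
    have c3 : Nat.Coprime (q + 1) (q ^ 2 + 1) := Nat.coprime_of_dvd' fun p hp h1 h2 => by
      refine (hone p hp h1 ?_).elim
      have h3 : p ∣ (q + 1) ^ 2 := h1.trans (dvd_pow_self _ two_ne_zero)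
      have h5 := Nat.dvd_sub h3 h2
      rw [show (q + 1) ^ 2 - (q ^ 2 + 1) = 2 * q by
        rw [show (q + 1) ^ 2 = q ^ 2 + 1 + 2 * q by ring, Nat.add_sub_cancel_left]] at h5
      rcases hp.dvd_mul.1 h5 with h6 | h6
      · exact h6
      · exact ((Nat.dvd_add_right h6).1 h1).trans (one_dvd 2)
    have := Nat.eq_one_of_dvd_coprimes ((c1.mul_right c2).mul_right c3) dvd_rfl hdvd
    omega

end CfsgLib.Goldschmidt.RankOne
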